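import Groth.Agent.PDLib.PD
import Groth.Agent.DepthLib.AB

/-!
# Vanishing of `Tor₁` between modules on different components of a planar singularity
-/

set_option autoImplicit false
set_option backward.isDefEq.respectTransparency false
set_option linter.style.haveILetI false

universe u

open CategoryTheory CategoryTheory.Limits TensorProduct CommAlgDim IsLocalRing

namespace Groth.Agent.PlanarTorLib

variable {R : Type u} [CommRing R]

/-- `Tor₁(M, L) = 0` if a presentation of `M` stays injective after tensoring with `L`. -/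
theorem isZero_tor_one_of_injective {K F M : Type u} [AddCommGroup K] [Module R K] [AddCommGroup F] [Module R F]
    [Module.Flat R F] [AddCommGroup M] [Module R M] (i : K →ₗ[R] F) (p : F →ₗ[R] M)
    (hp : Function.Surjective p) (hip : Function.Exact i p) (L : ModuleCat.{u} R)
    (hinj : Function.Injective (i.rTensor L)) :
    IsZero (((Tor (ModuleCat.{u} R) 1).obj (ModuleCat.of R M)).obj L) := by
  let P := projectiveResolution L
  refine PDLib.isZero_tor_of_exactAtSucc P 0 ?_
  let d1 := (P.complex.d 1 0).hom
  let d2 := (P.complex.d 2 1).hom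
  let e : P.complex.X 0 →ₗ[R] L := (P.π.f 0).hom
  have he : Function.Surjective e := (ModuleCat.epi_iff_surjective (P.π.f 0)).1 inferInstance
  have hde : Function.Exact d1 e :=
    (ShortComplex.ShortExact.moduleCat_exact_iff_function_exact _).1 P.exact₀
  have h21 : Function.Exact d2 d1 :=
    (ShortComplex.ShortExact.moduleCat_exact_iff_function_exact _).1 (P.exact_succ 0)
  let q := d1.rangeRestrict
  let ι := (LinearMap.range d1).subtype
  have hιe : Function.Exact ι e := fun z => (hde z).trans
    ⟨fun h => ⟨⟨z, h⟩, rfl⟩, by rintro ⟨w, rfl⟩; exact w.2⟩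
  have hq : Function.Exact d2 q := fun z => (⟨fun h => congrArg Subtype.val h, fun h => Subtype.ext h⟩ :
    q z = 0 ↔ d1 z = 0).trans (h21 z)
  -- injectivity of the first map after tensoring with `M`
  have key : Function.Injective (ι.lTensor M) := by
    rw [injective_iff_map_eq_zero]
    intro z hz
    obtain ⟨w, rfl⟩ := LinearMap.rTensor_surjective (LinearMap.range d1) hp z
    have hw : p.rTensor (P.complex.X 0) (ι.lTensor F w) = 0 := by
      rw [← hz, ← LinearMap.comp_apply, ← LinearMap.comp_apply, LinearMap.rTensor_comp_lTensor,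
        LinearMap.lTensor_comp_rTensor]
    obtain ⟨v, hv⟩ := (rTensor_exact (P.complex.X 0) hip hp _).1 hw
    have hv0 : e.lTensor K v = 0 := hinj (by
      rw [map_zero, ← LinearMap.comp_apply, LinearMap.rTensor_comp_lTensor, ← LinearMap.lTensor_comp_rTensor,
        LinearMap.comp_apply, hv, ← LinearMap.comp_apply, ← LinearMap.lTensor_comp,
        hιe.linearMap_comp_eq_zero, LinearMap.lTensor_zero, LinearMap.zero_apply])
    obtain ⟨u', hu'⟩ := (lTensor_exact K hιe he v).1 hv0
    have hwu : w = i.rTensor _ u' := Module.Flat.lTensor_preserves_injective_linearMap ι Subtype.val_injective (by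
      rw [← hv, ← hu', ← LinearMap.comp_apply, ← LinearMap.comp_apply, LinearMap.rTensor_comp_lTensor,
        LinearMap.lTensor_comp_rTensor])
    rw [hwu, ← LinearMap.comp_apply, ← LinearMap.rTensor_comp, hip.linearMap_comp_eq_zero,
      LinearMap.rTensor_zero, LinearMap.zero_apply]
  intro z
  have hfac : ∀ z, d1.lTensor M z = ι.lTensor M (q.lTensor M z) := fun z => by
    rw [← LinearMap.comp_apply, ← LinearMap.lTensor_comp]; rfl
  show d1.lTensor M z = 0 ↔ z ∈ Set.range (d2.lTensor M)
  rw [hfac, map_eq_zero_iff _ key]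
  exact lTensor_exact M hq d1.surjective_rangeRestrict z

/-- Elements killed by a power of the maximal ideal vanish. -/
theorem eq_zero_of_pow_smul [IsLocalRing R] {L : Type u} [AddCommGroup L] [Module R L]
    (h : ∀ l : L, (∀ a ∈ maximalIdeal R, a • l = 0) → l = 0) :
    ∀ (n : ℕ) (l : L), (∀ a ∈ maximalIdeal R ^ n, a • l = 0) → l = 0
  | 0, l, hl => by simpa using hl 1 (by simp)
  | n + 1, l, hl => h l fun b hb => eq_zero_of_pow_smul h n _ fun a ha => by
      rw [← mul_smul]
      exact hl _ (by rw [pow_succ]; exact Ideal.mul_mem_mul ha hb)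

/-- A dual module over a reduced local ring which is not a field has no socle. -/
theorem dual_socle [IsLocalRing R] [IsReduced R] (hm : maximalIdeal R ≠ ⊥) {N : Type u} [AddCommGroup N]
    [Module R N] (φ : Module.Dual R N) (h : ∀ a ∈ maximalIdeal R, a • φ = 0) : φ = 0 := by
  ext n
  have hk : ∀ a ∈ maximalIdeal R, a * φ n = 0 := fun a ha => LinearMap.congr_fun (h a ha) n
  by_cases hu : φ n ∈ maximalIdeal R
  · exact IsReduced.eq_zero _ ⟨2, by rw [pow_two]; exact hk _ hu⟩
  · refine absurd (eq_bot_iff.2 fun a ha => ?_) hm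
    exact (IsUnit.mul_left_eq_zero (not_not.1 fun h' => hu ((mem_maximalIdeal _).2 h'))).1 (hk a ha)

/-- Injectivity of a presentation coming from a regular ring of dimension two. -/
theorem injective_rTensor_ker [IsLocalRing R] (S : Type u) [CommRing S] [IsRegularLocalRing S]
    (hS : ringKrullDim S = 2) (π : S →+* R) (hπ : Function.Surjective π) (I J : Ideal R) (n : ℕ)
    (hIJ : maximalIdeal R ^ n ≤ I ⊔ J) (M : Type u) [AddCommGroup M] [Module R M] {x : R}
    (hx : x ∈ maximalIdeal R) (hxM : IsSMulRegular M x) (hI : I ≤ Module.annihilator R M)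
    (L : Type u) [AddCommGroup L] [Module R L] (hJ : J ≤ Module.annihilator R L)
    (hL : ∀ l : L, (∀ a ∈ maximalIdeal R, a • l = 0) → l = 0) {a : ℕ} (p : (Fin a → R) →ₗ[R] M)
    (hp : Function.Surjective p) : Function.Injective ((LinearMap.ker p).subtype.rTensor L) := by
  classical
  letI : Algebra S R := π.toAlgebra
  letI : Module S M := Module.compHom M π
  haveI : IsScalarTower S R M := IsScalarTower.of_algebraMap_smul fun _ _ => rfl
  let red : (Fin a → S) →ₗ[S] (Fin a → R) := LinearMap.compLeft (Algebra.linearMap S R) (Fin a)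
  have hred : Function.Surjective red := fun v => ⟨fun k => (hπ (v k)).choose, funext fun k => (hπ (v k)).choose_spec⟩
  let f : (Fin a → S) →ₗ[S] M := (p.restrictScalars S) ∘ₗ red
  have hf : Function.Surjective f := hp.comp hred
  haveI : Module.Finite S M := Module.Finite.of_surjective f hf
  -- the kernel is free
  obtain ⟨x', rfl⟩ := hπ x
  have hx' : x' ∈ maximalIdeal S := (mem_maximalIdeal _).2 fun h => (mem_maximalIdeal _).1 hx (h.map π)
  have hdep : ((1 : ℕ) : ℕ∞) ≤ LocCoh.depth S M := (CommAlgDim.le_depth_iff 1).2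
    ⟨[x'], rfl, fun r hr => by rwa [List.mem_singleton.1 hr],
      (RingTheory.Sequence.isWeaklyRegular_singleton_iff _ _).2 hxM⟩
  have hpd := (DepthLib.le_depth_iff_pdlt S M (d := 2) (by exact_mod_cast hS) (by omega)).1 hdep
  haveI := pdlt_one_iff.1 ((pdlt_ker_iff f hf 0).1 hpd)
  haveI : Module.Finite S (LinearMap.ker f) := Module.IsNoetherian.finite S _
  haveI : Module.Free S (LinearMap.ker f) := Module.free_of_flat_of_isLocalRing
  let b := Module.finBasis S (LinearMap.ker f)
  set c := Module.finrank S (LinearMap.ker f)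
  let v : Fin c → LinearMap.ker p := fun j => ⟨red (b j : Fin a → S), (b j).2⟩
  let Φ : (Fin c → R) →ₗ[R] LinearMap.ker p := Fintype.linearCombination R v
  have hΦ : Function.Surjective Φ := by
    rintro ⟨y, hy⟩
    obtain ⟨y', rfl⟩ := hred y
    refine ⟨fun j => π (b.repr ⟨y', hy⟩ j), Subtype.ext ?_⟩
    have e := congrArg (fun k : LinearMap.ker f => red (k : Fin a → S)) (b.sum_repr ⟨y', hy⟩)
    refine Eq.trans ?_ e
    simp only [Φ, Fintype.linearCombination_apply, Submodule.coe_sum, Submodule.coe_smul, map_sum, map_smul, v]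
    rfl
  rw [injective_iff_map_eq_zero]
  intro z hz
  obtain ⟨w, rfl⟩ := LinearMap.rTensor_surjective L hΦ z
  -- coordinates
  set l : Fin c → L := TensorProduct.piScalarRight R R L (Fin c) (TensorProduct.comm R _ _ w) with hl
  have hw : w = ∑ j, (Pi.single j (1 : R)) ⊗ₜ[R] l j := by
    apply ((TensorProduct.comm R _ _).trans (TensorProduct.piScalarRight R R L (Fin c))).injective
    funext i
    simp [hl, Finset.sum_apply, Pi.single_apply]
  have hz' : ∀ k, ∑ j, (v j : Fin a → R) k • l j = 0 := fun k => by
    have := congrArg (fun t => (TensorProduct.lid R L) ((LinearMap.proj k : (Fin a → R) →ₗ[R] R).rTensor L t)) hz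
    simpa [hw, Φ, map_sum, Finset.sum_apply] using this
  -- killed by `I`
  have hIl : ∀ s ∈ I, ∀ j, s • l j = 0 := by
    intro s hs j
    obtain ⟨s', rfl⟩ := hπ s
    have hker : ∀ k, s' • (Pi.single k 1 : Fin a → S) ∈ LinearMap.ker f := fun k => by
      rw [LinearMap.mem_ker, map_smul]
      exact Module.mem_annihilator.1 (hI hs) _
    let h : Fin a → Fin c → S := fun k j => b.repr ⟨_, hker k⟩ j
    have hdec : ∀ i, ∑ k, (b i : Fin a → S) k • (⟨_, hker k⟩ : LinearMap.ker f) = s' • b i := fun i => by
      refine Subtype.ext ?_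
      funext t
      simp [Finset.sum_apply, Pi.single_apply, mul_comm]
    have hid : ∀ i j, ∑ k, (b i : Fin a → S) k * h k j = if i = j then s' else 0 := fun i j => by
      have := congrArg (b.coord j) (hdec i)
      rw [map_sum, map_smul] at this
      simp only [map_smul, Module.Basis.coord_apply, b.repr_self, Finsupp.single_apply, smul_eq_mul] at this
      simpa [h] using this
    calc π s' • l j = ∑ i, π (if i = j then s' else 0) • l i := by simp [apply_ite π, ite_smul]
      _ = ∑ i, ∑ k, π (h k j) • ((v i : Fin a → R) k • l i) := by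
          refine Finset.sum_congr rfl fun i _ => ?_
          rw [← hid, map_sum, Finset.sum_smul]
          refine Finset.sum_congr rfl fun k _ => ?_
          rw [map_mul, mul_comm, mul_smul]
          rfl
      _ = 0 := by
          rw [Finset.sum_comm]
          simp [← Finset.smul_sum, hz']
  have hl0 : ∀ j, l j = 0 := fun j => eq_zero_of_pow_smul hL n _ fun r hr => by
    obtain ⟨s, hs, t, ht, rfl⟩ := Submodule.mem_sup.1 (hIJ hr)
    rw [add_smul, hIl s hs j, Module.mem_annihilator.1 (hJ ht) _, add_zero]
  simp [hw, hl0]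

end Groth.Agent.PlanarTorLib
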